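import Groth.Prelude.Def_Red
import Groth.Agent.Lib.MTExt29.Comm
import Mathlib.AlgebraicGeometry.AlgClosed.Basic
import Mathlib.AlgebraicGeometry.Artinian

/-!
# A map to a finite étale scheme factors through a cover with geometrically connected fibres
-/

set_option autoImplicit false
set_option linter.style.haveILetI false
set_option backward.isDefEq.respectTransparency.types false

universe u

open CategoryTheory CategoryTheory.Limits AlgebraicGeometry

noncomputable section

namespace Groth.Agent.ClFactor14

/-- A morphism from a connected scheme to a finite étale scheme over an algebraically closed field is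
constant. -/
theorem exists_const {K : Type u} [Field K] [IsAlgClosed K] {F Q : Scheme.{u}}
    (πF : F ⟶ Spec (CommRingCat.of K)) (πQ : Q ⟶ Spec (CommRingCat.of K)) [ConnectedSpace F] [IsFinite πQ] [Etale πQ]
    (g : F ⟶ Q) (hg : g ≫ πQ = πF) : ∃ σ : Spec (CommRingCat.of K) ⟶ Q, g = πF ≫ σ := by
  haveI : IsLocallyArtinian Q := .of_locallyQuasiFinite πQ
  haveI : DiscreteTopology Q := IsLocallyArtinian.discreteTopology
  obtain ⟨x⟩ : Nonempty F := inferInstance
  let σ : Spec (CommRingCat.of K) ⟶ Q := pointOfClosedPoint πQ (g x) (isClosed_discrete _)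
  have hσ : σ ≫ πQ = 𝟙 _ := pointOfClosedPoint_comp ..
  haveI : Etale (σ ≫ πQ) := by rw [hσ]; infer_instance
  haveI : Etale σ := MorphismProperty.of_postcomp (W := @Etale) (W' := @Etale) σ πQ ‹_› ‹_›
  haveI : Mono σ := mono_of_mono_fac hσ
  haveI : IsOpenImmersion σ := IsOpenImmersion.of_flat_of_mono σ
  have hr : Set.range g ⊆ Set.range σ := by
    rintro _ ⟨y, rfl⟩
    refine ⟨(IsLocalRing.closedPoint K : Spec (CommRingCat.of K)), ?_⟩
    rw [pointOfClosedPoint_apply]
    exact (isPreconnected_range g.continuous).subsingleton (Set.mem_range_self x) (Set.mem_range_self y)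
  refine ⟨σ, ?_⟩
  obtain ⟨l, hl⟩ : ∃ l : F ⟶ Spec (CommRingCat.of K), l ≫ σ = g := ⟨_, IsOpenImmersion.lift_fac σ g hr⟩
  rw [← hg, ← hl, Category.assoc l σ πQ, hσ, Category.comp_id]

/-- Two morphisms over `S` to a separated unramified scheme which agree on a field point through every
point agree. -/
theorem eq_of_points {S P Z : Scheme.{u}} (π : Z ⟶ S) [FormallyUnramified π] [LocallyOfFiniteType π]
    (a b : P ⟶ Z) (hab : a ≫ π = b ≫ π)
    (h : ∀ p : P, ∃ (T : Scheme.{u}) (t : T ⟶ P), p ∈ Set.range t ∧ t ≫ a = t ≫ b) : a = b := by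
  let j := pullback.fst (pullback.lift a b hab) (pullback.diagonal π)
  have hj : j ≫ a = j ≫ b := by
    have e := pullback.condition (f := pullback.lift a b hab) (g := pullback.diagonal π)
    have e₁ := congrArg (fun z => z ≫ pullback.fst π π) e
    have e₂ := congrArg (fun z => z ≫ pullback.snd π π) e
    simp only [Category.assoc, pullback.lift_fst, pullback.lift_snd, pullback.diagonal_fst,
      pullback.diagonal_snd, Category.comp_id] at e₁ e₂
    exact e₁.trans e₂.symm
  haveI : IsOpenImmersion j := inferInstanceAs (IsOpenImmersion (pullback.fst _ _))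
  haveI : Surjective j := ⟨fun p => by
    obtain ⟨T, t, ⟨z, hz⟩, ht⟩ := h p
    let l : T ⟶ pullback (pullback.lift a b hab) (pullback.diagonal π) := pullback.lift t (t ≫ a) (by
      apply pullback.hom_ext
      · rw [Category.assoc, Category.assoc, pullback.lift_fst, pullback.diagonal_fst, Category.comp_id]
      · rw [Category.assoc, Category.assoc, pullback.lift_snd, pullback.diagonal_snd, Category.comp_id, ht])
    exact ⟨l z, by rw [← hz, ← Scheme.Hom.comp_apply, pullback.lift_fst]⟩⟩
  haveI : IsIso j := (isIso_iff_isOpenImmersion_and_epi_base j).2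
    ⟨inferInstance, (TopCat.epi_iff_surjective _).2 j.surjective⟩
  exact (cancel_epi j).1 hj

/-- A morphism to a finite étale scheme factors through a faithfully flat cover with geometrically
connected fibres. -/
theorem exists_factor {S : Scheme.{u}} {M C Z : Over S} (q : M ⟶ C) [Flat q.left] [Surjective q.left]
    [QuasiCompact q.left] (hfib : ∀ c : C.left, ConnectedSpace (Red.geomFibre c (Over.mk q.left)).left)
    [IsFinite Z.hom] [Etale Z.hom] (n : M ⟶ Z) : ∃ v : C ⟶ Z, q ≫ v = n := by
  refine MTExt29.exists_desc q n fun {X} a b hab => ?_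
  have key : pullback.fst q.left q.left ≫ n.left = pullback.snd q.left q.left ≫ n.left := by
    refine eq_of_points Z.hom _ _ ?_ fun p => ?_
    · rw [Category.assoc, Category.assoc, Over.w, ← Over.w q, pullback.condition_assoc]
    let c : C.left := (pullback.fst q.left q.left ≫ q.left) p
    obtain ⟨z, hz, -⟩ := Scheme.Pullback.exists_preimage_pullback
      (f := pullback.fst q.left q.left ≫ q.left) (g := Red.geomPt c) p (IsLocalRing.closedPoint _) (by
        rw [Scheme.Hom.comp_apply (f := Spec.map _), Scheme.fromSpecResidueField_apply])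
    refine ⟨_, pullback.fst (pullback.fst q.left q.left ≫ q.left) (Red.geomPt c), ⟨z, hz⟩, ?_⟩
    haveI := hfib c
    let e := Red.geomPt c ≫ C.hom
    let g : pullback q.left (Red.geomPt c) ⟶ pullback Z.hom e :=
      pullback.lift (pullback.fst _ _ ≫ n.left) (pullback.snd _ _) (by
        rw [Category.assoc, Over.w, ← Over.w q, pullback.condition_assoc])
    haveI : IsFinite (pullback.snd Z.hom e) := MorphismProperty.pullback_snd _ _ ‹_›
    haveI : Etale (pullback.snd Z.hom e) := MorphismProperty.pullback_snd _ _ ‹_›
    haveI : ConnectedSpace ↥(pullback q.left (Red.geomPt c)) := hfib c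
    obtain ⟨σ, hσ⟩ := exists_const (pullback.snd q.left (Red.geomPt c)) (pullback.snd Z.hom e) g
      (pullback.lift_snd _ _ _)
    have hn : pullback.fst q.left (Red.geomPt c) ≫ n.left =
        pullback.snd q.left (Red.geomPt c) ≫ σ ≫ pullback.fst Z.hom e := by
      rw [← Category.assoc (pullback.snd q.left (Red.geomPt c)), ← hσ, pullback.lift_fst]
    let l₁ : pullback (pullback.fst q.left q.left ≫ q.left) (Red.geomPt c) ⟶ pullback q.left (Red.geomPt c) :=
      pullback.lift (pullback.fst _ _ ≫ pullback.fst _ _) (pullback.snd _ _) (by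
        rw [Category.assoc]; exact pullback.condition)
    let l₂ : pullback (pullback.fst q.left q.left ≫ q.left) (Red.geomPt c) ⟶ pullback q.left (Red.geomPt c) :=
      pullback.lift (pullback.fst _ _ ≫ pullback.snd _ _) (pullback.snd _ _) (by
        rw [Category.assoc, ← pullback.condition (f := q.left) (g := q.left)]; exact pullback.condition)
    have h₁ := congrArg (fun z => l₁ ≫ z) hn
    have h₂ := congrArg (fun z => l₂ ≫ z) hn
    simp only [l₁, l₂, pullback.lift_fst_assoc, pullback.lift_snd_assoc, Category.assoc] at h₁ h₂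
    exact h₁.trans h₂.symm
  refine Over.OverMorphism.ext ?_
  have hab' : a.left ≫ q.left = b.left ≫ q.left := congrArg CommaMorphism.left hab
  have := congrArg (fun z => pullback.lift a.left b.left hab' ≫ z) key
  simp only [pullback.lift_fst_assoc, pullback.lift_snd_assoc] at this
  exact this

end Groth.Agent.ClFactor14

end
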